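import Mathlib.Algebra.Homology.DerivedCategory.Ext.Map
import Mathlib.Algebra.Homology.DerivedCategory.Ext.EnoughInjectives
import Mathlib.CategoryTheory.Adjunction.Additive
import Mathlib.CategoryTheory.Preadditive.Injective.Preserves
import Groth.Agent.Lib.GrothSS.Acyclic
import Groth.Agent.Lib.DerCat.DimShiftRD

/-!
# Ext groups along an adjunction with exact left adjoint
-/

universe w w' v v' u u'

open CategoryTheory CategoryTheory.Limits CategoryTheory.Abelian

namespace GrothLib.ExtAdj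

variable {A : Type u} [Category.{v} A] [Abelian A] {B : Type u'} [Category.{v'} B] [Abelian B]
  [HasExt.{w} A] [HasExt.{w'} B] {L : A ⥤ B} {R : B ⥤ A} (adj : L ⊣ R)
  [L.Additive] [R.Additive] [PreservesFiniteLimits L] [PreservesFiniteColimits L]

/-- Apply the left adjoint, then compose with the counit. -/
noncomputable def adjMap (X : A) (Y : B) (n : ℕ) : Ext.{w} X (R.obj Y) n →+ Ext.{w'} (L.obj X) Y n :=
  AddMonoidHom.comp
    (AddMonoidHom.mk' (fun e => e.comp (Ext.mk₀ (adj.counit.app Y)) (add_zero n))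
      (fun _ _ => Ext.add_comp _ _ _ _))
    (L.mapExtAddHom X (R.obj Y) n)

omit [R.Additive] in
theorem adjMap_apply (X : A) (Y : B) (n : ℕ) (e : Ext.{w} X (R.obj Y) n) :
    adjMap adj X Y n e = (e.mapExactFunctor L).comp (Ext.mk₀ (adj.counit.app Y)) (add_zero n) := rfl

omit [R.Additive] in
theorem adjMap_mk₀ (X : A) (Y : B) (g : X ⟶ R.obj Y) :
    adjMap adj X Y 0 (Ext.mk₀ g) = Ext.mk₀ ((adj.homEquiv X Y).symm g) := by
  rw [adjMap_apply, Ext.mapExactFunctor_mk₀, Ext.mk₀_comp_mk₀, Adjunction.homEquiv_counit]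

theorem bijective_adjMap_zero (X : A) (Y : B) : Function.Bijective (adjMap adj X Y 0) := by
  refine ⟨fun a b h => ?_, fun y => ?_⟩
  · obtain ⟨a, rfl⟩ := (Ext.mk₀_bijective _ _).2 a
    obtain ⟨b, rfl⟩ := (Ext.mk₀_bijective _ _).2 b
    rw [adjMap_mk₀, adjMap_mk₀] at h
    rw [(adj.homEquiv X Y).symm.injective ((Ext.mk₀_bijective _ _).1 h)]
  · obtain ⟨y, rfl⟩ := (Ext.mk₀_bijective _ _).2 y
    refine ⟨Ext.mk₀ (adj.homEquiv X Y y), ?_⟩
    rw [adjMap_mk₀, Equiv.symm_apply_apply]

omit [R.Additive] in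
theorem adjMap_naturality (X : A) {Y Y' : B} (g : Y ⟶ Y') (n : ℕ) (e : Ext.{w} X (R.obj Y) n) :
    adjMap adj X Y' n (e.comp (Ext.mk₀ (R.map g)) (add_zero n)) =
      (adjMap adj X Y n e).comp (Ext.mk₀ g) (add_zero n) := by
  rw [adjMap_apply, adjMap_apply, Ext.mapExactFunctor_comp, Ext.mapExactFunctor_mk₀,
    Ext.comp_assoc_of_second_deg_zero, Ext.comp_assoc_of_second_deg_zero, Ext.mk₀_comp_mk₀, Ext.mk₀_comp_mk₀]
  exact congrArg (fun m => Ext.comp _ (Ext.mk₀ m) (add_zero n)) (adj.counit.naturality g)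

theorem adjMap_extClass (X : A) {S : ShortComplex B} (hS : S.ShortExact) (hRS : (S.map R).ShortExact)
    (n : ℕ) (e : Ext.{w} X (R.obj S.X₃) n) :
    adjMap adj X S.X₁ (n + 1) (e.comp hRS.extClass rfl) = (adjMap adj X S.X₃ n e).comp hS.extClass rfl := by
  let φ : (S.map R).map L ⟶ S :=
    { τ₁ := adj.counit.app S.X₁
      τ₂ := adj.counit.app S.X₂
      τ₃ := adj.counit.app S.X₃
      comm₁₂ := (adj.counit_naturality S.f).symm
      comm₂₃ := (adj.counit_naturality S.g).symm }
  have key : (hRS.map_of_exact L).extClass.comp (Ext.mk₀ (adj.counit.app S.X₁)) (add_zero 1) =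
      (Ext.mk₀ (adj.counit.app S.X₃)).comp hS.extClass (zero_add 1) :=
    ShortComplex.ShortExact.extClass_naturality (hRS.map_of_exact L) hS φ
  refine (adjMap_apply adj X S.X₁ (n + 1) _).trans ?_
  refine Eq.trans ?_ (congrArg (fun m => Ext.comp m hS.extClass rfl) (adjMap_apply adj X S.X₃ n e)).symm
  refine Eq.trans ?_ (Ext.comp_assoc_of_second_deg_zero _ _ _ _).symm
  refine Eq.trans ?_ (congrArg (fun m => Ext.comp (e.mapExactFunctor L) m (rfl : n + 1 = n + 1)) key)
  refine Eq.trans ?_ (Ext.comp_assoc_of_third_deg_zero _ _ _ _)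
  refine congrArg (fun m => Ext.comp m (Ext.mk₀ (adj.counit.app S.X₁)) (add_zero (n + 1))) ?_
  exact (Ext.mapExactFunctor_comp L e hRS.extClass rfl).trans
    (congrArg (fun m => Ext.comp (e.mapExactFunctor L) m rfl) (Ext.mapExactFunctor_extClass L hRS))

variable [EnoughInjectives B]

theorem bijective_adjMap (X : A) : ∀ (n : ℕ) (Y : B), (∀ q : ℕ, IsZero ((R.rightDerived (q + 1)).obj Y)) →
    Function.Bijective (adjMap adj X Y n) := by
  haveI : PreservesFiniteLimits R := (adj.rightAdjoint_preservesLimits : PreservesLimitsOfSize.{0, 0} R).preservesFiniteLimits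
  haveI : R.IsRightAdjoint := adj.isRightAdjoint
  haveI : R.PreservesInjectiveObjects :=
    Functor.preservesInjectiveObjects_of_adjunction_of_preservesMonomorphisms adj
  intro n
  induction n with
  | zero => exact fun Y _ => bijective_adjMap_zero adj X Y
  | succ n ih =>
    intro Y hY
    let S : ShortComplex B := ShortComplex.mk (Injective.ι Y) (cokernel.π (Injective.ι Y)) (cokernel.condition _)
    have hS : S.ShortExact :=
      { exact := ShortComplex.exact_of_g_is_cokernel _ (cokernelIsCokernel _) }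
    haveI : Injective S.X₂ := inferInstanceAs (Injective (Injective.under Y))
    haveI : Injective (R.obj S.X₂) := R.injective_obj S.X₂
    haveI : Injective (S.map R).X₂ := R.injective_obj S.X₂
    have hRS : (S.map R).ShortExact := GrothLib.HomGamma.shortExact_map_of_isZero R hS (hY 0)
    have h3 : ∀ q : ℕ, IsZero ((R.rightDerived (q + 1)).obj S.X₃) := fun q =>
      GrothSS.isZero_rightDerived_X₃ R q S hS (hY (q + 1)) (R.isZero_rightDerived_obj_injective_succ q S.X₂)
    have h2 := ih S.X₂ fun q => R.isZero_rightDerived_obj_injective_succ q S.X₂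
    refine ⟨(injective_iff_map_eq_zero _).2 fun a ha => ?_, fun b => ?_⟩
    · obtain ⟨x₃, rfl⟩ := Ext.covariant_sequence_exact₁ X hRS a (Ext.eq_zero_of_injective _) rfl
      replace ha := (adjMap_extClass adj X hS hRS n x₃).symm.trans ha
      obtain ⟨z, hz⟩ := Ext.covariant_sequence_exact₃ _ hS (adjMap adj X S.X₃ n x₃) rfl ha
      obtain ⟨w, rfl⟩ := h2.2 z
      have : x₃ = w.comp (Ext.mk₀ (R.map S.g)) (add_zero n) :=
        (ih S.X₃ h3).1 (hz.symm.trans (adjMap_naturality adj X S.g n w).symm)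
      rw [this]
      refine (Ext.comp_assoc_of_second_deg_zero w (Ext.mk₀ (S.map R).g) hRS.extClass rfl).trans ?_
      exact (congrArg (fun m => Ext.comp w m rfl) hRS.comp_extClass).trans (Ext.comp_zero _ _ _ _ _)
    · obtain ⟨y₃, rfl⟩ := Ext.covariant_sequence_exact₁ (L.obj X) hS b (Ext.eq_zero_of_injective _) rfl
      obtain ⟨x₃, rfl⟩ := (ih S.X₃ h3).2 y₃
      exact ⟨x₃.comp hRS.extClass rfl, adjMap_extClass adj X hS hRS n x₃⟩

end GrothLib.ExtAdj
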